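import Cfsg.Agent.H281.EP.RowTw
import Cfsg.Agent.H59.EP.UBGen
import Cfsg.Agent.H173.EP.LineBound

/-!
# S3499: index bound for the socle `A₁₁` (helper281, after helper621's `index_a11`)
-/

set_option autoImplicit false

namespace Cfsg.Agent.H281.EP

open Cfsg.Agent.H419.EP Cfsg.Agent.H284
open scoped MatrixGroups

variable {Q : Type} [Group Q] {A : Subgroup Q} {Γ : Subgroup (MulAut Q)}

/-- no abelian normal subgroups -/
theorem hab_of {L : Type*} [Group L] [Finite L] (hL : IsSimpleGroup L) (hn : ¬ (Nat.card L).Prime) (hS : HasSoc A L) :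
    ∀ K : Subgroup Q, K ≤ A → (∀ a ∈ A, ∀ k ∈ K, a * k * a⁻¹ ∈ K) → (∀ a ∈ K, ∀ b ∈ K, a * b = b * a) → K = ⊥ := by
  intro K hK hKn hKab
  refine hS.no_abelian hL (fun hc => hn ?_) hK hKn hKab
  let _ : CommGroup L := { (inferInstance : Group L) with mul_comm := hc }
  exact IsSimpleGroup.prime_card

/-- **UB1 + UB2** -/
theorem index_le_gen [Finite Q] (hg : H59.EP.TwoGen.{0}) (hs : IsSimpleGroup Q) (h : EPT A Γ)
    (hab : ∀ K : Subgroup Q, K ≤ A → (∀ a ∈ A, ∀ k ∈ K, a * k * a⁻¹ ∈ K) → (∀ a ∈ K, ∀ b ∈ K, a * b = b * a) → K = ⊥)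
    (l : List (ℕ × ℕ)) (h1 : ∀ x ∈ l, x.1.Prime ∧ 0 < x.2) (h2 : (l.map Prod.fst).Nodup)
    (hc : Nat.card A ∣ (l.map fun x => x.1 ^ x.2).prod) (hB : (l.map fun x => x.1 ^ x.2).prod < 60 ^ 61) :
    A.index ≤ 1 + ((l.map fun x => H59.EP.gal x.1 x.2).sum * ((l.map fun x => x.1 ^ x.2).prod / 6) +
        (l.map fun x => x.1 ^ x.2).prod ^ 2 / 60 + (l.map fun x => x.1 ^ x.2).prod ^ 3 / 12744000) *
          (2 * (Nat.card A / 6)) :=
  H59.EP.index_le_of (H59.EP.EPT.ncard_le_gen_dvd h hg hab l h1 h2 hc hB)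
    (Cfsg.Agent.H173.EP.ub1 hs h (by norm_num) fun _ hx => H59.EP.EPT.six_le h hab hx) le_rfl

/-- `A₁₁` -/
theorem index_a11 [Finite Q] (hg : H59.EP.TwoGen.{0}) (hs : IsSimpleGroup Q) (h : EPT A Γ)
    (hS : HasSoc A (alternatingGroup (Fin 11))) : A.index ≤ 10 ^ 23 := by
  have hLs : IsSimpleGroup (alternatingGroup (Fin 11)) :=
    alternatingGroup.isSimpleGroup (by rw [Nat.card_eq_fintype_card, Fintype.card_fin]; norm_num)
  have hLc : Nat.card (alternatingGroup (Fin 11)) = 19958400 := by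
    rw [nat_card_alternatingGroup, Nat.card_eq_fintype_card, Fintype.card_fin]
    rfl
  have hd : Nat.card A ∣ 39916800 := by
    obtain ⟨f, hf⟩ := hS.exists_hom
    have hd := Subgroup.card_dvd_of_injective f hf
    rw [H383.Cov.Ten.card_mulAut_alt (by norm_num) (by norm_num)] at hd
    exact hd
  have h1 := index_le_gen hg hs h (hab_of hLs (by rw [hLc]; norm_num) hS)
    [(2, 8), (3, 4), (5, 2), (7, 1), (11, 1)] (by norm_num) (by decide) (by simpa using hd) (by norm_num)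
  refine h1.trans ?_
  have h2 : Nat.card A / 6 ≤ 6652800 := Nat.div_le_div_right (c := 6) (Nat.le_of_dvd (by norm_num) hd)
  refine (Nat.add_le_add_left (Nat.mul_le_mul_left _ (Nat.mul_le_mul_left 2 h2)) 1).trans ?_
  decide +kernel

end Cfsg.Agent.H281.EP
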