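import Cfsg.Agent.H281.EP.AltEleven
import Cfsg.Agent.H273.EPU.OwnTen
import Cfsg.Agent.H982.EP.OmRes
import Cfsg.Agent.S0205

/-!
# S3499-IV, row S5848 in the shape `RowPlus 10` of helper982 (helper281)
-/

set_option autoImplicit false

namespace Cfsg.Agent.H281.EP

open Cfsg.Agent.H419.EP Cfsg.Agent.H284
open scoped MatrixGroups

/-- **the row `Ω₁₀⁺(q)`**, from the list S5848 and two-generation -/
theorem rowPlus_ten_of (hR : H383.Cov.Ten.S5848Stmt) (hg : H59.EP.TwoGen.{0}) : H982.EP.RowPlus 10 :=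
  fun hs _ _ h _ _ _ _ m hQ hplus hres =>
    row_tw hR h m hQ hplus hres (index_a11 hg hs h)
      (H273.EPU.hown_plus hs h hg (fun _ _ _ hT => Cfsg.Agent.S0205.result hT) m hQ hplus)

end Cfsg.Agent.H281.EP
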