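import Cfsg.Agent.H281.EP.PlusTen
import Cfsg.Agent.H59.EP.UBFin
import Cfsg.Agent.S5848

/-!
# S3499-IV, row `Ω₁₀⁺(q)`, no hypothesis (helper281)
-/

set_option autoImplicit false

namespace Cfsg.Agent.H281.EP

theorem rowPlus_ten : H982.EP.RowPlus 10 :=
  rowPlus_ten_of (fun Q hQ hplus H hH hS => Cfsg.Agent.S5848.result Q hQ hplus H hH hS) H59.EP.twoGen

end Cfsg.Agent.H281.EP
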