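import Cfsg.Agent.H281.EP.Card
import Cfsg.Agent.H383.Cov.TenRes

/-!
# S3499: the residual class of `Ω⁺₁₀(q)` (helper281, task 5985)

`row_of` : from the list S5848 and index bounds for the socles `L₂(11)`, `A₁₁`, `A₁₂`, and the own characteristic
socle `PSp₄(q)`.
-/

set_option autoImplicit false

namespace Cfsg.Agent.H281.EP

open Cfsg.Agent.H419.EP Cfsg.Agent.H284
open scoped MatrixGroups

/-- index bound from `|A| ≤ |Aut L|` -/
theorem card_le_of_soc {Q : Type*} [Group Q] [Finite Q] {A : Subgroup Q} {L : Type*} [Group L] [Finite L]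
    (h : HasSoc A L) {a b : ℕ} (ha : Nat.card (MulAut L) = a) (hb : A.index ≤ b) : Nat.card Q ≤ a * b := by
  rw [← A.card_mul_index]
  exact Nat.mul_le_mul (h.card_le.trans ha.le) hb

theorem row_of (hR : H383.Cov.Ten.S5848Stmt) {Q : Type*} [Group Q] [Finite Q] {A : Subgroup Q}
    {Γ : Subgroup (MulAut Q)} (h : EPT A Γ) {F : Type} [Field F] [Fintype F] {Qf : (Fin 10 → F) → F}
    (m : Model Q (Cfsg.Geo.omegaGL Qf)) (hQ : Cfsg.Geo.IsNondegenerateQuadraticForm Qf)
    (hplus : Cfsg.Geo.IsPlusTypeOn Qf ⊤) (hres : Cfsg.Geo.InOrthogonalResidualClass (m.hat A))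
    (hL : HasSoc A (Matrix.ProjectiveSpecialLinearGroup (Fin 2) (ZMod 11)) → A.index ≤ 10 ^ 26)
    (hA11 : HasSoc A (alternatingGroup (Fin 11)) → A.index ≤ 10 ^ 23)
    (hA12 : HasSoc A (alternatingGroup (Fin 12)) → Fintype.card F = 3 → A.index ≤ 2692084535711)
    (hown : HasSoc A (Cfsg.PSp 2 F) → Fintype.card F % 4 = 1 → False) : False := by
  obtain ⟨P, hP, hcase⟩ := hR Qf hQ hplus (m.hat A) (m.isMaximalIn h.max) hres
  have hsoc := hasSoc_of_core m hP
  have h5 : (Fintype.card F).Prime → Fintype.card F ≠ 3 → (Fintype.card F % 11 = 1 ∨ Fintype.card F % 11 = 3 ∨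
      Fintype.card F % 11 = 4 ∨ Fintype.card F % 11 = 5 ∨ Fintype.card F % 11 = 9) → 5 ≤ Fintype.card F := by
    intro hp h3 hmod
    have := hp.two_le
    have : Fintype.card F ≠ 4 := by
      intro h4
      rw [h4] at hp
      exact absurd hp (by norm_num)
    omega
  have hbig := card_ten_ge m hQ hplus
  rcases hcase with ⟨⟨e⟩, hp, h3, hmod⟩ | ⟨⟨e⟩, hp, h3, hmod⟩ | ⟨⟨e⟩, h3⟩ | ⟨⟨e⟩, h3⟩
  · have hS := hsoc.congr e
    have : Finite (Matrix.ProjectiveSpecialLinearGroup (Fin 2) (ZMod 11)) := by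
      have : Fact (Nat.Prime 11) := ⟨by norm_num⟩
      infer_instance
    have h1 := card_le_of_soc hS H383.Cov.Ten.card_mulAut_psl (hL hS)
    have h2 := Nat.pow_le_pow_left (h5 hp h3 hmod) 45
    norm_num at h1 h2
    omega
  · have hS := hsoc.congr e
    have h1 := card_le_of_soc hS (H383.Cov.Ten.card_mulAut_alt (by norm_num) (by norm_num)) (hA11 hS)
    norm_num [Nat.factorial] at h1
    by_cases h55 : Fintype.card F = 5
    · rw [card_ten_five m hQ hplus h55] at h1
      norm_num at h1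
    · have h2 := Nat.pow_le_pow_left (show 7 ≤ Fintype.card F by
        have h6 : Fintype.card F ≠ 6 := by
          intro h6
          rw [h6] at hp
          exact absurd hp (by norm_num)
        have := h5 hp h3 hmod
        omega) 45
      norm_num at h2
      omega
  · have hS := hsoc.congr e
    have h1 := card_le_of_soc hS (H383.Cov.Ten.card_mulAut_alt (by norm_num) (by norm_num)) (hA12 hS h3)
    rw [card_ten_three m hQ hplus h3] at h1
    norm_num [Nat.factorial] at h1
  · exact hown (hsoc.congr e) h3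

end Cfsg.Agent.H281.EP
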