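import Cfsg.Agent.H281.EP.RowTw
import Cfsg.Agent.S5848

/-!
# S3499: the residual class of `Ω⁺₁₀(q)`, S5848 plugged in (helper281, task 5985)
-/

set_option autoImplicit false

namespace Cfsg.Agent.H281.EP

open Cfsg.Agent.H419.EP Cfsg.Agent.H284
open scoped MatrixGroups

theorem stmt5848 : H383.Cov.Ten.S5848Stmt :=
  fun Q hQ hplus H hH hS => Cfsg.Agent.S5848.result Q hQ hplus H hH hS

theorem row {Q : Type*} [Group Q] [Finite Q] {A : Subgroup Q}
    {Γ : Subgroup (MulAut Q)} (h : EPT A Γ) {F : Type} [Field F] [Fintype F] {Qf : (Fin 10 → F) → F}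
    (m : Model Q (Cfsg.Geo.omegaGL Qf)) (hQ : Cfsg.Geo.IsNondegenerateQuadraticForm Qf)
    (hplus : Cfsg.Geo.IsPlusTypeOn Qf ⊤) (hres : Cfsg.Geo.InOrthogonalResidualClass (m.hat A))
    (hA11 : HasSoc A (alternatingGroup (Fin 11)) → A.index ≤ 10 ^ 23)
    (hown : HasSoc A (Cfsg.PSp 2 F) → Fintype.card F % 4 = 1 → False) : False :=
  row_tw stmt5848 h m hQ hplus hres hA11 hown

end Cfsg.Agent.H281.EP
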