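import Cfsg.Agent.H281.EP.Row
import Cfsg.Agent.H991.EP.Crude

/-!
# S3499: the residual class of `Ω⁺₁₀(q)`, the socle `L₂(11)` (helper281, task 5985)

The crude bound of helper991 is enough for `L₂(11)`.
-/

set_option autoImplicit false

namespace Cfsg.Agent.H281.EP

open Cfsg.Agent.H419.EP Cfsg.Agent.H284
open scoped MatrixGroups

theorem om_1320 : H991.EP.Om 1320 ≤ 6 := by
  have h := Nat.primeFactorsList_unique (n := 1320) (l := [2, 2, 2, 3, 5, 11]) (by norm_num)
    (by intro p hp; simp only [List.mem_cons, List.not_mem_nil, or_false] at hp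
        rcases hp with rfl | rfl | rfl | rfl | rfl | rfl <;> norm_num)
  exact h.length_eq.symm.le

theorem index_le_psl11 {Q : Type*} [Group Q] [Finite Q] {A : Subgroup Q} {Γ : Subgroup (MulAut Q)} (h : EPT A Γ)
    (hL : HasSoc A (Matrix.ProjectiveSpecialLinearGroup (Fin 2) (ZMod 11))) : A.index ≤ 10 ^ 26 := by
  obtain ⟨f, hf⟩ := hL.exists_hom
  have hd := Subgroup.card_dvd_of_injective f hf
  rw [H383.Cov.Ten.card_mulAut_psl] at hd
  refine (H991.EP.index_le_sb h (by norm_num) hd om_1320).trans ?_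
  norm_num [H991.EP.sb, H991.EP.cb]

/-- **The row**, the list S5848 as a hypothesis. -/
theorem row_of' (hR : H383.Cov.Ten.S5848Stmt) {Q : Type*} [Group Q] [Finite Q] {A : Subgroup Q}
    {Γ : Subgroup (MulAut Q)} (h : EPT A Γ) {F : Type} [Field F] [Fintype F] {Qf : (Fin 10 → F) → F}
    (m : Model Q (Cfsg.Geo.omegaGL Qf)) (hQ : Cfsg.Geo.IsNondegenerateQuadraticForm Qf)
    (hplus : Cfsg.Geo.IsPlusTypeOn Qf ⊤) (hres : Cfsg.Geo.InOrthogonalResidualClass (m.hat A))
    (hA11 : HasSoc A (alternatingGroup (Fin 11)) → A.index ≤ 10 ^ 23)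
    (hA12 : HasSoc A (alternatingGroup (Fin 12)) → Fintype.card F = 3 → A.index ≤ 2692084535711)
    (hown : HasSoc A (Cfsg.PSp 2 F) → Fintype.card F % 4 = 1 → False) : False :=
  row_of hR h m hQ hplus hres (index_le_psl11 h) hA11 hA12 hown

end Cfsg.Agent.H281.EP
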