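import Cfsg.Agent.H281.EP.RowL
import Cfsg.Agent.H168.EP.Alt

/-!
# S3499: the residual class of `Ω⁺₁₀(q)`, the socle `A₁₂`, `q = 3` (helper281, task 5985)

`PΩ⁺₁₀(3)` has an element of order 121 (the torus `q⁵ - 1`), and helper168's `kill_121` applies.
-/

set_option autoImplicit false

namespace Cfsg.Agent.H281.EP

open Cfsg.Agent.H419.EP Cfsg.Agent.H284
open Cfsg.Agent.H182.Sign
open Cfsg.Agent.LieClassical.OrthForms
open scoped MatrixGroups

theorem ppd_three : H689.Ppd 3 5 11 := by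
  obtain ⟨r, hr⟩ := H689.exists_ppd (q := 3) (k := 5) (by norm_num) (by norm_num) (by norm_num)
  have h1 : r ∣ 3 ^ 5 - 1 := (hr.iff 5).2 dvd_rfl
  have h2 : ¬ r ∣ 3 ^ 1 - 1 := fun h => absurd ((hr.iff 1).1 h) (by norm_num)
  have h3 : r ∣ 2 * 11 ^ 2 := by
    norm_num at h1 ⊢
    exact h1
  rcases hr.prime.dvd_mul.1 h3 with h4 | h4
  · exact absurd h4 (by norm_num at h2 ⊢; exact h2)
  · have h5 := hr.prime.dvd_of_dvd_pow h4
    rw [Nat.prime_dvd_prime_iff_eq hr.prime (by norm_num)] at h5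
    rw [h5] at hr
    exact hr

/-- an element of order 121 -/
theorem exists_order_121 {Q : Type*} [Group Q] {F : Type} [Field F] [Fintype F] {Qf : (Fin 10 → F) → F}
    (m : Model Q (Cfsg.Geo.omegaGL Qf)) (hQ : Cfsg.Geo.IsNondegenerateQuadraticForm Qf)
    (hplus : Cfsg.Geo.IsPlusTypeOn Qf ⊤) (h3 : Fintype.card F = 3) : ∃ c : Q, orderOf c = 121 := by
  obtain ⟨Q', rfl, hnd⟩ := H883.Bridge.exists_quadraticForm hQ
  obtain ⟨e, he⟩ := H888.C6.exists_plus_equiv (m := 5) (n := 10) (by norm_num) (by norm_num) hQ hplus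
  have hs : Sg Q' 5 1 := (sg_plusForm (F := F) 5).congr e (fun v => by rw [he, ← coe_plusForm])
  obtain ⟨C, hC, hCo, -, -⟩ := H383.Cov.Ten.exC hs (Fintype.card_fin 10) (t := 11) (N := 121)
    (by rw [h3]; exact ppd_three) (by norm_num) (by rw [h3]; norm_num) (by decide)
  refine ⟨m.π ⟨C, hC⟩, ?_⟩
  have h11 : Fact (Nat.Prime 11) := ⟨by norm_num⟩
  have e1 : (⟨C, hC⟩ : Cfsg.Geo.omegaGL ⇑Q') ^ 121 = 1 := Subtype.ext (by
    show C ^ 121 = 1
    rw [← hCo]
    exact pow_orderOf_eq_one C)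
  refine orderOf_eq_prime_pow (p := 11) (n := 1) ?_ ?_
  · intro hpow
    rw [pow_one, ← map_pow, m.ker] at hpow
    obtain ⟨a, ha⟩ := hpow
    have h4 : a ^ 2 = 1 := by
      have := Classical.decEq F
      have h5 : Fintype.card Fˣ = 2 := by rw [Fintype.card_units, h3]
      rw [← h5]
      exact pow_card_eq_one
    have ha' : (Units.map (Matrix.scalar (Fin 10) : F →+* Matrix (Fin 10) (Fin 10) F).toMonoidHom) a = C ^ 11 := ha
    have h6 : (C ^ 11) ^ 2 = 1 := by rw [← ha', ← map_pow, h4, map_one]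
    rw [← pow_mul] at h6
    have h7 := orderOf_dvd_of_pow_eq_one h6
    rw [hCo] at h7
    exact absurd h7 (by norm_num)
  · rw [← map_pow, show (11 : ℕ) ^ (1 + 1) = 121 by norm_num, e1, map_one]

/-- **The row**, the list S5848 as a hypothesis. -/
theorem row_tw (hR : H383.Cov.Ten.S5848Stmt) {Q : Type*} [Group Q] [Finite Q] {A : Subgroup Q}
    {Γ : Subgroup (MulAut Q)} (h : EPT A Γ) {F : Type} [Field F] [Fintype F] {Qf : (Fin 10 → F) → F}
    (m : Model Q (Cfsg.Geo.omegaGL Qf)) (hQ : Cfsg.Geo.IsNondegenerateQuadraticForm Qf)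
    (hplus : Cfsg.Geo.IsPlusTypeOn Qf ⊤) (hres : Cfsg.Geo.InOrthogonalResidualClass (m.hat A))
    (hA11 : HasSoc A (alternatingGroup (Fin 11)) → A.index ≤ 10 ^ 23)
    (hown : HasSoc A (Cfsg.PSp 2 F) → Fintype.card F % 4 = 1 → False) : False := by
  refine row_of' hR h m hQ hplus hres hA11 (fun hS h3 => ?_) hown
  exfalso
  obtain ⟨c, hc⟩ := exists_order_121 m hQ hplus h3
  refine H168.EP.kill_121 h hS (by norm_num) (by norm_num) hc ?_
  rw [card_ten_three m hQ hplus h3]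
  norm_num

end Cfsg.Agent.H281.EP
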